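import Groth.Agent.GrSysLib.Alg
import Groth.Agent.AlgzCohLib.Tower
import Mathlib.Algebra.Category.ModuleCat.Subobject

/-!
# Towers of modules controlled by finite graded systems

A tower `G` with connecting maps into an eventually generated system `L` and with kernels an eventually
generated system `K` satisfies the Mittag-Leffler condition, and its limit has small kernels.
-/

set_option autoImplicit false

universe u

open CategoryTheory CategoryTheory.Limits Opposite

noncomputable section

namespace CanExtLib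

open AlgzCohLib (Sys tr_tr tr_refl limit_π_tr limit_ext exists_limit_elem)
open GrSysLib (CommOps GenOps exists_sub_gen)

variable {A : Type u} [CommRing A]

/-- A tower with graded kernels and obstructions. -/
structure GT (G : Sys A) {r : ℕ} (a : Fin r → A) where
  K : ℕ → Type u
  L : ℕ → Type u
  [addK : ∀ n, AddCommGroup (K n)]
  [modK : ∀ n, Module A (K n)]
  [addL : ∀ n, AddCommGroup (L n)]
  [modL : ∀ n, Module A (L n)]
  finK : ∀ n, Module.Finite A (K n)
  finL : ∀ n, Module.Finite A (L n)
  ι : ∀ n, K n →ₗ[A] G.obj (op (n + 1))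
  δ : ∀ n, G.obj (op n) →ₗ[A] L n
  τ : Fin r → ∀ n, G.obj (op n) →ₗ[A] G.obj (op (n + 1))
  tK : Fin r → ∀ n, K n →ₗ[A] K (n + 1)
  tL : Fin r → ∀ n, L n →ₗ[A] L (n + 1)
  p_τ : ∀ i n x, (ARSys.tr G (Nat.le_succ n)).hom (τ i n x) = a i • x
  τ_p : ∀ i n x, τ i n ((ARSys.tr G (Nat.le_succ n)).hom x) = a i • x
  ker_p : ∀ n x, (ARSys.tr G (Nat.le_succ n)).hom x = 0 ↔ ∃ w, ι n w = x
  ker_δ : ∀ n x, δ n x = 0 → ∃ y, (ARSys.tr G (Nat.le_succ n)).hom y = x
  ι_tK : ∀ i n w, ι (n + 1) (tK i n w) = τ i (n + 1) (ι n w)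
  δ_τ : ∀ i n x, δ (n + 1) (τ i n x) = tL i n (δ n x)
  commK : CommOps tK
  commL : CommOps tL
  genK : GenOps tK
  genL : GenOps tL

attribute [instance] GT.addK GT.modK GT.addL GT.modL

theorem imageSubobject_eq_of_range {M M' N : ModuleCat.{u} A} (f : M ⟶ N) (g : M' ⟶ N)
    (h : LinearMap.range f.hom = LinearMap.range g.hom) : imageSubobject f = imageSubobject g := by
  have key : ∀ {P : ModuleCat.{u} A} (φ : P ⟶ N),
      LinearMap.range (imageSubobject φ).arrow.hom = LinearMap.range φ.hom := by
    intro P φ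
    conv_rhs => rw [← imageSubobject_arrow_comp φ]
    rw [ModuleCat.hom_comp, LinearMap.range_comp,
      LinearMap.range_eq_top.2 ((ModuleCat.epi_iff_surjective (factorThruImageSubobject φ)).1 inferInstance),
      Submodule.map_top]
  refine (ModuleCat.subobjectModule N).injective ?_
  show LinearMap.range (imageSubobject f).arrow.hom = LinearMap.range (imageSubobject g).arrow.hom
  rw [key, key, h]

namespace GT

variable {G : Sys A} {r : ℕ} {a : Fin r → A} (S : GT G a) [IsNoetherianRing A]

include S in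
/-- The terms are finite. -/
theorem finite (h0 : Module.Finite A (G.obj (op 0))) : ∀ n, Module.Finite A (G.obj (op n))
  | 0 => h0
  | n + 1 => by
    haveI := GT.finite h0 n
    haveI := S.finK n
    constructor
    refine Submodule.fg_of_fg_map_of_fg_inf_ker (ARSys.tr G (Nat.le_succ n)).hom (IsNoetherian.noetherian _) ?_
    rw [top_inf_eq, show LinearMap.ker (ARSys.tr G (Nat.le_succ n)).hom = LinearMap.range (S.ι n) from
      Submodule.ext fun x => (LinearMap.mem_ker.trans (S.ker_p n x))]
    rw [LinearMap.range_eq_map]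
    exact Module.Finite.fg_top.map _

variable {I : Ideal A} (ha : ∀ i, a i ∈ I)
variable (hkill : ∀ n, (I ^ (n + 1) • ⊤ : Submodule A (G.obj (op n))) = ⊥)

include S ha hkill in
/-- **The images stabilise.** -/
theorem exists_stable : ARSys.IsML G := by
  have := S.finL
  obtain ⟨d, hd⟩ := exists_sub_gen S.commL S.genL (fun m => LinearMap.range (S.δ m)) (by
    rintro i m _ ⟨y, rfl⟩
    exact ⟨_, S.δ_τ i m y⟩)
  -- classes can be moved deep into the powers of `I`
  have claim : ∀ (j m : ℕ), d ≤ m → ∀ (n : ℕ) (hn : n ≤ m) (y : G.obj (op (m + j))),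
      ∃ z, S.δ (m + j) z = S.δ (m + j) y ∧
        (ARSys.tr G (hn.trans (Nat.le_add_right m j))).hom z ∈ (I ^ j • ⊤ : Submodule A (G.obj (op n))) := by
    intro j
    induction j with
    | zero => exact fun m _ n _ y => ⟨y, rfl, by simp⟩
    | succ j ih =>
      intro m hm n hn y
      obtain ⟨w, hw, hwy⟩ := (Submodule.mem_iSup_iff_exists_finsupp _ _).1
        (hd (m + j) (by omega) (LinearMap.mem_range_self (S.δ (m + j + 1)) y))
      choose v hv hv' using fun i => Submodule.mem_map.1 (hw i)
      choose yi hyi using fun i => LinearMap.mem_range.1 (hv i)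
      choose zi hzi hzi' using fun i => ih m hm n hn (yi i)
      refine ⟨∑ i, S.τ i (m + j) (zi i), ?_, ?_⟩
      · show S.δ (m + j + 1) _ = S.δ (m + j + 1) y
        rw [map_sum, ← hwy, Finsupp.sum_fintype _ _ (fun _ => rfl)]
        exact Finset.sum_congr rfl fun i _ => by rw [S.δ_τ, hzi, hyi, hv']
      · rw [map_sum]
        refine Submodule.sum_mem _ fun i _ => ?_
        rw [← tr_tr (hn.trans (Nat.le_add_right m j)) (Nat.le_succ (m + j)), S.p_τ, map_smul, pow_succ',
          Submodule.mul_smul]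
        exact Submodule.smul_mem_smul (ha i) (hzi' i)
  intro n
  refine ⟨d + (n + 1), fun s hs => imageSubobject_eq_of_range _ _ ?_⟩
  -- it suffices to go one step up
  have step : ∀ N (h : n ≤ N), n + (d + (n + 1)) ≤ N →
      LinearMap.range (ARSys.tr G h).hom ≤ LinearMap.range (ARSys.tr G (h.trans (Nat.le_succ N))).hom := by
    intro N h hN
    rintro _ ⟨y, rfl⟩
    obtain ⟨m, rfl⟩ : ∃ m, N = m + (n + 1) := ⟨N - (n + 1), by omega⟩
    obtain ⟨z, hz, hz'⟩ := claim (n + 1) m (by omega) n (by omega) y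
    rw [hkill, Submodule.mem_bot] at hz'
    obtain ⟨y', hy'⟩ := S.ker_δ (m + (n + 1)) (y - z) (by rw [map_sub, hz, sub_self])
    refine ⟨y', ?_⟩
    rw [← tr_tr h (Nat.le_succ _), hy', map_sub, hz', sub_zero]
  have down : ∀ N (h : n ≤ N), n + (d + (n + 1)) ≤ N →
      LinearMap.range (ARSys.tr G h).hom =
        LinearMap.range (ARSys.tr G (Nat.le_add_right n (d + (n + 1)))).hom := by
    intro N h hN
    induction hN with
    | refl => rfl
    | @step N hN ih =>
      have hnN : n ≤ N := le_trans (Nat.le_add_right _ _) hN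
      refine le_antisymm ?_ ((ih hnN).ge.trans (step N hnN hN))
      rintro _ ⟨y, rfl⟩
      exact (ih hnN).le ⟨(ARSys.tr G (Nat.le_succ N)).hom y, tr_tr _ _ y⟩
  exact down (n + s) (Nat.le_add_right n s) (by omega)

include S ha in
omit hkill in
/-- **The kernels of the projections from the limit are small.** -/
theorem exists_ker_le (k : ℕ) :
    ∃ n, LinearMap.ker (limit.π G (op n)).hom ≤ I ^ k • (⊤ : Submodule A ↑(limit G)) := by
  have := S.finK
  obtain ⟨d, hd⟩ := exists_sub_gen S.commK S.genK
    (fun m => (LinearMap.range (limit.π G (op (m + 1))).hom).comap (S.ι m)) (by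
    rintro i m x ⟨z, hz⟩
    refine ⟨a i • z, ?_⟩
    rw [S.ι_tK, ← hz, map_smul, ← S.τ_p, limit_π_tr])
  let P : ℕ → Type u := fun l => {w : ↑(limit G) // (limit.π G (op l)).hom w = 0}
  have step : ∀ m, d ≤ m → ∀ w : P (m + 1), ∃ (y : Fin r → P m) (w' : P (m + 1 + 1)),
      w.1 = (∑ i, a i • (y i).1) + w'.1 := by
    intro m hm w
    obtain ⟨x, hx⟩ := (S.ker_p (m + 1) ((limit.π G (op (m + 1 + 1))).hom w.1)).1
      (by rw [limit_π_tr]; exact w.2)
    obtain ⟨c, hc, hcx⟩ := (Submodule.mem_iSup_iff_exists_finsupp _ _).1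
      (hd m hm (show x ∈ Submodule.comap (S.ι (m + 1)) _ from ⟨w.1, hx.symm⟩))
    choose v hv hv' using fun i => Submodule.mem_map.1 (hc i)
    choose y hy using fun i => LinearMap.mem_range.1 (hv i)
    have hy0 : ∀ i, (limit.π G (op m)).hom (y i) = 0 := fun i => by
      rw [← limit_π_tr (Nat.le_succ m) (y i), hy]
      exact (S.ker_p m _).2 ⟨v i, rfl⟩
    refine ⟨fun i => ⟨y i, hy0 i⟩, ⟨w.1 - ∑ i, a i • y i, ?_⟩, (add_sub_cancel _ _).symm⟩
    rw [map_sub, sub_eq_zero, ← hx, ← hcx, Finsupp.sum_fintype _ _ (fun _ => rfl), map_sum, map_sum]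
    refine Finset.sum_congr rfl fun i _ => ?_
    rw [map_smul, ← S.τ_p, limit_π_tr, hy, ← hv', S.ι_tK]
  have h1 : ∀ m, d ≤ m → LinearMap.ker (limit.π G (op (m + 1))).hom ≤
      I • LinearMap.ker (limit.π G (op m)).hom := by
    intro m hm z hz
    choose y w' hw using fun j (w : P (m + j + 1)) => step (m + j) (by omega) w
    let w : ∀ j, P (m + j + 1) := fun j => Nat.rec (motive := fun j => P (m + j + 1)) ⟨z, hz⟩ w' j
    have hpart : ∀ j, z = (∑ l ∈ Finset.range j, ∑ i, a i • (y l (w l) i).1) + (w j).1 := by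
      intro j
      induction j with
      | zero => rw [Finset.sum_range_zero, zero_add]; rfl
      | succ j ih =>
        rw [Finset.sum_range_succ, add_assoc]
        exact ih.trans (congrArg _ (hw j (w j)))
    have hvan : ∀ l n i, n ≤ m + l → (limit.π G (op n)).hom (y l (w l) i).1 = 0 := fun l n i h => by
      rw [← limit_π_tr h, (y l (w l) i).2, map_zero]
    choose Y hY using fun i => exists_limit_elem
      (fun n => (limit.π G (op n)).hom (∑ l ∈ Finset.range (n + 1), (y l (w l) i).1)) fun n => by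
        rw [limit_π_tr, Finset.sum_range_succ, map_add, hvan (n + 1) n i (by omega), add_zero]
    have hzY : z = ∑ i, a i • Y i := by
      refine limit_ext _ _ fun n => ?_
      conv_lhs => rw [hpart (n + 1)]
      rw [map_add, ← limit_π_tr (show n ≤ m + (n + 1) + 1 by omega) (w (n + 1)).1, (w (n + 1)).2,
        map_zero, add_zero]
      simp only [map_sum, map_smul, hY, Finset.smul_sum]
      exact Finset.sum_comm
    rw [hzY]
    refine Submodule.sum_mem _ fun i _ => Submodule.smul_mem_smul (ha i) ?_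
    rw [LinearMap.mem_ker, hY, map_sum]
    exact Finset.sum_eq_zero fun l hl => hvan l m i (Nat.le_add_right m l)
  refine ⟨d + k, ?_⟩
  induction k with
  | zero => simp
  | succ k ih =>
    refine (h1 (d + k) (by omega)).trans ?_
    rw [pow_succ', Submodule.mul_smul]
    exact Submodule.smul_mono le_rfl ih

end GT

end CanExtLib

end
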