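import Groth.Agent.AlgzCohLib.Tower
import Mathlib.RingTheory.Flat.EquationalCriterion
import Mathlib.RingTheory.LocalRing.MaximalIdeal.Basic

/-!
# Minimal generators of the powers of the maximal ideal and flat modules
-/

set_option autoImplicit false

universe u

noncomputable section

namespace CanExtLib

open AlgzCohLib (exists_sum_eq)
open IsLocalRing (maximalIdeal)

variable {R : Type u} [CommRing R] [IsLocalRing R]

/-- Generators of `N` independent modulo `𝔪 N`. -/
theorem exists_minimal_gens (N : Ideal R) (hN : N.FG) :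
    ∃ (s : ℕ) (b : Fin s → R), Ideal.span (Set.range b) = N ∧
      ∀ c : Fin s → R, ∑ i, b i * c i ∈ maximalIdeal R * N → ∀ i, c i ∈ maximalIdeal R := by
  classical
  have hex : ∃ s : ℕ, ∃ b : Fin s → R, Ideal.span (Set.range b) = N :=
    Submodule.fg_iff_exists_fin_generating_family.mp hN
  obtain ⟨s, ⟨b, hb⟩, hmin⟩ : ∃ s : ℕ, (∃ b : Fin s → R, Ideal.span (Set.range b) = N) ∧
      ∀ k < s, ¬ ∃ b : Fin k → R, Ideal.span (Set.range b) = N :=
    ⟨Nat.find hex, Nat.find_spec hex, fun k => Nat.find_min hex⟩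
  refine ⟨s, b, hb, fun c hc i => ?_⟩
  by_contra hci
  rw [← smul_eq_mul, ← hb] at hc
  obtain ⟨w, hw, hwe⟩ := Submodule.mem_ideal_smul_span_iff_exists_sum _ b _ |>.1 hc
  rw [Finsupp.sum_fintype _ _ (fun j => zero_smul R (b j))] at hwe
  have hu : IsUnit (c i - w i) := by
    by_contra hu
    exact hci (by simpa using add_mem ((IsLocalRing.mem_maximalIdeal _).2 hu) (hw i))
  obtain ⟨k, hk⟩ : ∃ k, s = k + 1 := ⟨s - 1, by have := i.isLt; omega⟩
  refine hmin k (by omega) ?_
  let e : Fin s ≃ Fin (k + 1) := finCongr hk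
  let b' : Fin k → R := fun j => b (e.symm ((e i).succAbove j))
  refine ⟨b', le_antisymm ?_ ?_⟩
  · rw [← hb]
    exact Ideal.span_mono (by rintro _ ⟨j, rfl⟩; exact ⟨_, rfl⟩)
  · rw [← hb, Ideal.span_le]
    rintro _ ⟨j, rfl⟩
    have hmem : ∀ j, j ≠ i → b j ∈ Ideal.span (Set.range b') := fun j hj => by
      obtain ⟨j', hj'⟩ := Fin.exists_succAbove_eq (e.injective.ne hj)
      exact Ideal.subset_span ⟨j', by simp [b', hj']⟩
    by_cases hj : j = i
    · subst hj
      have hz : ∑ l, b l * (c l - w l) = 0 := by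
        simp only [mul_sub, Finset.sum_sub_distrib, ← hwe, smul_eq_mul, mul_comm (w _), sub_self]
      rw [← Finset.add_sum_erase _ _ (Finset.mem_univ j), add_eq_zero_iff_eq_neg] at hz
      refine (Submodule.smul_mem_iff_of_isUnit _ hu).1 ?_
      rw [smul_eq_mul, mul_comm, hz]
      exact neg_mem (Ideal.sum_mem _ fun l hl => Ideal.mul_mem_right _ _ (hmem l (Finset.ne_of_mem_erase hl)))
    · exact hmem j hj

variable [IsNoetherianRing R] {B : Type u} [CommRing B] (ψ : R →+* B)
  {M : Type u} [AddCommGroup M] [Module B M] [Module R M] [Module.Flat R M]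

/-- Flat modules are quasi-regular for the powers of the maximal ideal. -/
theorem ind_of_flat (hψ : ∀ (r : R) (x : M), r • x = ψ r • x) (n : ℕ) {s : ℕ} (b : Fin s → R)
    (hb : Ideal.span (Set.range b) = maximalIdeal R ^ n)
    (hmin : ∀ c : Fin s → R, ∑ i, b i * c i ∈ maximalIdeal R * maximalIdeal R ^ n → ∀ i, c i ∈ maximalIdeal R)
    (l : Fin s → M)
    (hl : ∑ i, ψ (b i) • l i ∈ ((maximalIdeal R).map ψ ^ (n + 1) • ⊤ : Submodule B M)) (i : Fin s) :
    l i ∈ ((maximalIdeal R).map ψ • ⊤ : Submodule B M) := by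
  obtain ⟨t, g, hg⟩ := Submodule.fg_iff_exists_fin_generating_family.mp
    (IsNoetherian.noetherian (maximalIdeal R ^ (n + 1)))
  have hg' : Ideal.span (Set.range g) = maximalIdeal R ^ (n + 1) := hg
  rw [← Ideal.map_pow, ← hg', Ideal.map_span, ← Set.range_comp] at hl
  obtain ⟨w, -, hw⟩ := exists_sum_eq _ _ hl
  have hrel : ∑ j : Fin s ⊕ Fin t, (Sum.elim b (fun k => -g k) j) • (Sum.elim l w j) = 0 := by
    rw [Fintype.sum_sum_type]
    simp only [Sum.elim_inl, Sum.elim_inr, hψ, map_neg, neg_smul, Finset.sum_neg_distrib, hw]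
    exact add_neg_cancel _
  obtain ⟨k, a, y, hy, ha⟩ := Module.Flat.isTrivialRelation_of_sum_smul_eq_zero hrel
  have hli : l i = ∑ j, a (Sum.inl i) j • y j := hy (Sum.inl i)
  rw [hli]
  refine Submodule.sum_mem _ fun j _ => ?_
  rw [hψ]
  refine Submodule.smul_mem_smul (Ideal.mem_map_of_mem _ (hmin (fun i' => a (Sum.inl i') j) ?_ i)) trivial
  have h := ha j
  rw [Fintype.sum_sum_type] at h
  simp only [Sum.elim_inl, Sum.elim_inr, neg_mul, Finset.sum_neg_distrib, add_neg_eq_zero] at h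
  rw [h, ← pow_succ']
  exact Ideal.sum_mem _ fun k' _ => Ideal.mul_mem_right _ _ (hg' ▸ Ideal.subset_span ⟨k', rfl⟩)

end CanExtLib

end
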