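import Groth.Agent.FormalCohLib.Sec
import Groth.Agent.AlgzCohLib.Basic
import Groth.Agent.AlgzCohLib.Tower
import Groth.Agent.KFlatLib.Stalk
import Groth.Agent.KFlatLib.PullTensor
import Groth.Agent.DepthLib.RegAB
import Groth.Agent.DecayLib.Free
import Groth.Prelude.Def_Algz2

/-!
# Completed stalks of a coherent formal module, and the graded pieces at stalks
-/

set_option autoImplicit false

universe u

open CategoryTheory CategoryTheory.Limits AlgebraicGeometry TopologicalSpace Opposite
open FormalLib (rhoA)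
open GrSysLib (trMap)

noncomputable section

namespace CanExtLib

open FormalCohLib (AdSys idU smulMod_app app_trMap_eq_zero app_trMap_surjective)
open Algz (toStalk stalkIdeal stalkMapₗ hatTrans hatStalk hatRing)

variable {A : Type u} [CommRing A] {X : Scheme.{u}} [X.Over (Spec (CommRingCat.of A))]

theorem stalkMapₗ_germ {M N : X.Modules} (φ : M ⟶ N) (y : X) {V : X.Opens} (hy : y ∈ V) (s : Γ(M, V)) :
    stalkMapₗ φ y (M.presheaf.germ V y hy s) = N.presheaf.germ V y hy (φ.app V s) :=
  DerSch.stalkFunctor_map_germ y φ V hy s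

theorem stalkMapₗ_comp {M N P : X.Modules} (φ : M ⟶ N) (ψ : N ⟶ P) (y : X) (x : M.presheaf.stalk y) :
    stalkMapₗ (φ ≫ ψ) y x = stalkMapₗ ψ y (stalkMapₗ φ y x) :=
  LinearMap.congr_fun (congrArg ModuleCat.Hom.hom ((DerSch.stalkFunctor X y).map_comp φ ψ)) x

theorem stalkMapₗ_id (M : X.Modules) (y : X) (x : M.presheaf.stalk y) : stalkMapₗ (𝟙 M) y x = x :=
  LinearMap.congr_fun (congrArg ModuleCat.Hom.hom ((DerSch.stalkFunctor X y).map_id M)) x

theorem stalkMapₗ_zero {M N : X.Modules} (y : X) (x : M.presheaf.stalk y) :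
    stalkMapₗ (0 : M ⟶ N) y x = 0 := by
  obtain ⟨V, hy, s, rfl⟩ := M.presheaf.exists_germ_eq (x := y) x
  rw [stalkMapₗ_germ]
  exact map_zero _

theorem germ_rhoA (y : X) {V : X.Opens} (hy : y ∈ V) (a : A) :
    X.presheaf.germ V y hy (rhoA A V a) = toStalk A X y a :=
  X.presheaf.germ_res_apply (homOfLE (le_top : V ≤ ⊤)) y hy _

theorem germ_smul' (M : X.Modules) (y : X) {V : X.Opens} (hy : y ∈ V) (r : Γ(X, V)) (s : Γ(M, V)) :
    M.presheaf.germ V y hy (r • s) = X.presheaf.germ V y hy r • M.presheaf.germ V y hy s :=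
  PresheafOfModules.germ_smul (R := X.presheaf)
    (show PresheafOfModules (X.presheaf ⋙ forget₂ CommRingCat RingCat) from M.val) y V hy r s

theorem stalkMapₗ_smulMod (M : X.Modules) (y : X) (a : A) (x : M.presheaf.stalk y) :
    stalkMapₗ (Formal.smulMod A M a) y x = toStalk A X y a • x := by
  obtain ⟨V, hy, s, rfl⟩ := M.presheaf.exists_germ_eq (x := y) x
  rw [stalkMapₗ_germ, smulMod_app, germ_smul', germ_rhoA]

theorem stalkIdeal_pow (I : Ideal A) (y : X) (n : ℕ) :
    stalkIdeal I y ^ n = (I ^ n).map (toStalk A X y) := (Ideal.map_pow _ I n).symm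

variable {I : Ideal A} {G : ℕᵒᵖ ⥤ X.Modules} (hG : Formal.IsCohFormal I G)

omit hG in
theorem smul_le_ker {M N : X.Modules} (φ : M ⟶ N) {n : ℕ} (y : X)
    (h : ∀ a ∈ I ^ n, Formal.smulMod A M a ≫ φ = 0) :
    (stalkIdeal I y ^ n • ⊤ : Submodule (X.presheaf.stalk y) (M.presheaf.stalk y)) ≤
      LinearMap.ker (stalkMapₗ φ y) := by
  rw [stalkIdeal_pow, Submodule.smul_le]
  intro r hr x _
  induction hr using Submodule.span_induction generalizing x with
  | mem r hr =>
    obtain ⟨a, ha, rfl⟩ := hr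
    rw [LinearMap.mem_ker, ← stalkMapₗ_smulMod, ← stalkMapₗ_comp, h a ha, stalkMapₗ_zero]
  | zero => rw [zero_smul]; exact zero_mem _
  | add r r' _ _ hr hr' => rw [add_smul]; exact add_mem (hr x trivial) (hr' x trivial)
  | smul r r' _ hr => rw [smul_assoc]; exact Submodule.smul_mem _ r (hr x trivial)

include hG in
theorem kill_stalk (n : ℕ) (y : X) :
    (stalkIdeal I y ^ (n + 1) • ⊤ :
      Submodule (X.presheaf.stalk y) ((G.obj (op n)).presheaf.stalk y)) = ⊥ := by
  rw [eq_bot_iff]
  intro x hx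
  have h := smul_le_ker (𝟙 (G.obj (op n))) y (fun a ha => by rw [Category.comp_id]; exact hG.2.1 n a ha) hx
  rwa [LinearMap.mem_ker, stalkMapₗ_id] at h

variable [AlgebraicGeometry.IsNoetherian X]

include hG in
theorem stalk_trMap_surjective (n : ℕ) (y : X) : Function.Surjective (stalkMapₗ (trMap G n) y) := by
  haveI := GrSysLib.epi_trMap hG n
  exact (ModuleCat.epi_iff_surjective _).1 (inferInstance : Epi ((DerSch.stalkFunctor X y).map (trMap G n)))

include hG in
theorem ker_stalk_trMap (n : ℕ) (y : X) :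
    LinearMap.ker (stalkMapₗ (trMap G n) y) = (stalkIdeal I y ^ (n + 1) • ⊤ :
      Submodule (X.presheaf.stalk y) ((G.obj (op (n + 1))).presheaf.stalk y)) := by
  refine le_antisymm (fun x hx => ?_) (smul_le_ker _ y fun a ha => ?_)
  · obtain ⟨V, hy, s, rfl⟩ := (G.obj (op (n + 1))).presheaf.exists_germ_eq (x := y) x
    rw [LinearMap.mem_ker, stalkMapₗ_germ] at hx
    obtain ⟨W, hyW, i, i', hW⟩ := (G.obj (op n)).presheaf.germ_eq y hy hy _ _
      (hx.trans (map_zero ((G.obj (op n)).presheaf.germ V y hy).hom).symm)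
    obtain ⟨_, ⟨W', hW', rfl⟩, hyW', hle⟩ :=
      X.isBasis_affineOpens.exists_subset_of_mem_open hyW W.isOpen
    have hle' : W' ≤ W := hle
    let s' : Γ(G.obj (op (n + 1)), W') :=
      (G.obj (op (n + 1))).presheaf.map (homOfLE (hle'.trans i.le)).op s
    have h0 : (trMap G n).app W' s' = 0 := by
      rw [QCohLib.app_map]
      have h := congrArg ((G.obj (op n)).presheaf.map (homOfLE hle').op) hW
      rw [map_zero, map_zero, ← CategoryTheory.comp_apply, ← Functor.map_comp] at h
      exact h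
    have hs := (app_trMap_eq_zero hG hW' n s').1 h0
    rw [← (G.obj (op (n + 1))).presheaf.germ_res_apply (homOfLE (hle'.trans i.le)) y hyW' s]
    show (G.obj (op (n + 1))).presheaf.germ W' y hyW' s' ∈ _
    rw [FormalCohLib.idU_pow] at hs
    generalize s' = t at hs
    refine Submodule.smul_induction_on hs (fun r hr v _ => ?_) fun p q hp hq => by
      rw [map_add]; exact add_mem hp hq
    rw [germ_smul']
    refine Submodule.smul_mem_smul ?_ trivial
    have h2 := Ideal.mem_map_of_mem (X.presheaf.germ W' y hyW').hom hr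
    rw [Ideal.map_map, show (X.presheaf.germ W' y hyW').hom.comp (rhoA A W') = toStalk A X y from
      RingHom.ext (germ_rhoA y hyW')] at h2
    rw [stalkIdeal_pow]
    exact h2
  · exact (AlgzCohLib.smulFamily_comp_eq_zero_iff _ _).1 (GrSysLib.smulFamily_trMap hG n) a ha

/-- The stalks as an adic system. -/
def stSys (y : X) : AdSys (stalkIdeal I y) where
  M n := (G.obj (op n)).presheaf.stalk y
  t n := stalkMapₗ (trMap G n) y
  surj n := stalk_trMap_surjective hG n y
  fin n := have := (hG.1 n).1; DepthLib.finite_stalk _ (hG.1 n).2 y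
  kill n := kill_stalk hG n y
  ker_t n := ker_stalk_trMap hG n y

include hG in
theorem of_bijective (n : ℕ) (y : X) :
    Function.Bijective (AdicCompletion.of (stalkIdeal I y) ((G.obj (op n)).presheaf.stalk y)) :=
  AdicCompletion.of_bijective_iff.2
    (DecayLib.isAdicComplete_of_pow_smul_eq_bot _ (n + 1) (kill_stalk hG n y))

/-- The comparison with the completed stalk. -/
def toHat (y : X) : (stSys hG y).L →ₗ[X.presheaf.stalk y] ↥(hatStalk I G y) where
  toFun x := ⟨fun n => AdicCompletion.of _ _ (x.1 n), fun n => by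
    refine (AdicCompletion.map_of _ _ _).trans ?_
    exact congrArg _ (x.2 n)⟩
  map_add' x x' := Subtype.ext (funext fun n => map_add _ _ _)
  map_smul' b x := Subtype.ext (funext fun n => (map_smul _ b _).trans rfl)

theorem toHat_bijective (y : X) : Function.Bijective (toHat hG y) := by
  refine ⟨fun x x' h => ?_, fun z => ?_⟩
  · exact Subtype.ext (funext fun n => (of_bijective hG n y).1 (congrFun (congrArg Subtype.val h) n))
  · choose w hw using fun n => (of_bijective hG n y).2 (z.1 n)
    refine ⟨⟨w, fun n => (of_bijective hG n y).1 ?_⟩, Subtype.ext (funext hw)⟩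
    refine (AdicCompletion.map_of _ _ _).symm.trans (Eq.trans ?_ (hw n).symm)
    exact (congrArg _ (hw (n + 1))).trans (z.2 n)

/-- The limit of the stalks is the completed stalk. -/
def hatEquiv (y : X) : (stSys hG y).L ≃ₗ[X.presheaf.stalk y] ↥(hatStalk I G y) :=
  LinearEquiv.ofBijective (toHat hG y) (toHat_bijective hG y)

section Mu

omit [AlgebraicGeometry.IsNoetherian X]

include hG in
theorem exists_mu (n : ℕ) {b : A} (hb : b ∈ I ^ (n + 1)) :
    ∃ μ : G.obj (op 0) ⟶ kernel (trMap G n),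
      ARSys.tr G (Nat.zero_le (n + 1)) ≫ μ ≫ kernel.ι _ = Formal.smulMod A (G.obj (op (n + 1))) b := by
  obtain ⟨g, hg⟩ := (AlgzCohLib.tr_isModQuot hG (Nat.zero_le (n + 1))).factor _
    (Formal.smulMod A (G.obj (op (n + 1))) b) fun c hc => by
      rw [← FormalLib.smulMod_mul]
      refine hG.2.1 (n + 1) _ ?_
      rw [pow_succ I (n + 1)]
      exact Ideal.mul_mem_mul hb (by simpa using hc)
  have h0 : g ≫ trMap G n = 0 := by
    haveI := (AlgzCohLib.tr_isModQuot hG (Nat.zero_le (n + 1))).epi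
    rw [← cancel_epi (ARSys.tr G (Nat.zero_le (n + 1))), comp_zero, ← Category.assoc, hg]
    exact (AlgzCohLib.smulFamily_comp_eq_zero_iff _ _).1 (GrSysLib.smulFamily_trMap hG n) b hb
  exact ⟨kernel.lift _ g h0, by rw [kernel.lift_ι, hg]⟩

/-- Multiplication by an element of `I^(n+1)`, from the first term to the `n`-th kernel. -/
def mu (n : ℕ) (b : A) (hb : b ∈ I ^ (n + 1)) : G.obj (op 0) ⟶ kernel (trMap G n) :=
  (exists_mu hG n hb).choose

theorem tr_mu (n : ℕ) (b : A) (hb : b ∈ I ^ (n + 1)) :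
    ARSys.tr G (Nat.zero_le (n + 1)) ≫ mu hG n b hb ≫ kernel.ι _ = Formal.smulMod A (G.obj (op (n + 1))) b :=
  (exists_mu hG n hb).choose_spec

theorem mu_ext (n : ℕ) {φ ψ : G.obj (op 0) ⟶ kernel (trMap G n)}
    (h : ARSys.tr G (Nat.zero_le (n + 1)) ≫ φ ≫ kernel.ι (trMap G n) =
      ARSys.tr G (Nat.zero_le (n + 1)) ≫ ψ ≫ kernel.ι (trMap G n)) (hG : Formal.IsCohFormal I G) : φ = ψ := by
  haveI := (AlgzCohLib.tr_isModQuot hG (Nat.zero_le (n + 1))).epi
  exact (cancel_mono (kernel.ι (trMap G n))).1 ((cancel_epi (ARSys.tr G (Nat.zero_le (n + 1)))).1 h)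

end Mu

theorem tr_zero_proj (y : X) (n : ℕ) (l : (stSys hG y).L) :
    stalkMapₗ (ARSys.tr G (Nat.zero_le n)) y ((stSys hG y).proj n l) = (stSys hG y).proj 0 l := by
  induction n with
  | zero =>
    rw [show ARSys.tr G (le_refl 0) = 𝟙 _ from G.map_id _]
    exact stalkMapₗ_id _ _ _
  | succ n ih =>
    rw [show ARSys.tr G (Nat.zero_le (n + 1)) = trMap G n ≫ ARSys.tr G (Nat.zero_le n) from G.map_comp _ _,
      stalkMapₗ_comp]
    exact (congrArg _ ((stSys hG y).t_proj n l)).trans ih

/-- **The graded pieces split into copies of the first term.** -/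
theorem exists_split (n : ℕ) {s : ℕ} (b : Fin s → A) (hb : ∀ i, b i ∈ I ^ (n + 1))
    (hspan : ∀ y : X, stalkIdeal I y ≠ ⊤ →
      Ideal.span (Set.range fun i => toStalk A X y (b i)) = stalkIdeal I y ^ (n + 1))
    (hind : ∀ y : X, stalkIdeal I y ≠ ⊤ → ∀ l : Fin s → ↥(hatStalk I G y),
      ∑ i, toStalk A X y (b i) • l i ∈
          (stalkIdeal I y ^ (n + 2) • ⊤ : Submodule (X.presheaf.stalk y) ↥(hatStalk I G y)) →
        ∀ i, l i ∈ (stalkIdeal I y • ⊤ : Submodule (X.presheaf.stalk y) ↥(hatStalk I G y))) :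
    ∃ p : Fin s → (kernel (trMap G n) ⟶ G.obj (op 0)), ∑ i, p i ≫ mu hG n (b i) (hb i) = 𝟙 _ := by
  classical
  let φ : (⨁ fun _ : Fin s => G.obj (op 0)) ⟶ kernel (trMap G n) := biproduct.desc fun i => mu hG n (b i) (hb i)
  suffices IsIso φ by
    refine ⟨fun i => inv φ ≫ biproduct.π _ i, ?_⟩
    simp only [Category.assoc, ← Preadditive.comp_sum]
    rw [← biproduct.desc_eq, IsIso.inv_hom_id]
  refine KFlatLib.isIso_of_stalks φ fun y => ?_
  have hιinj : Function.Injective (stalkMapₗ (kernel.ι (trMap G n)) y) :=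
    (ModuleCat.mono_iff_injective _).1
      (inferInstance : Mono ((DerSch.stalkFunctor X y).map (kernel.ι (trMap G n))))
  let S := stSys hG y
  -- the value of `φ` on a summand
  have hmu : ∀ (i : Fin s) (l : S.L),
      stalkMapₗ (kernel.ι (trMap G n)) y (stalkMapₗ (mu hG n (b i) (hb i)) y (S.proj 0 l)) =
        toStalk A X y (b i) • S.proj (n + 1) l := fun i l => by
    refine Eq.trans ?_ (stalkMapₗ_smulMod (G.obj (op (n + 1))) y (b i) (S.proj (n + 1) l))
    rw [← tr_mu hG n (b i) (hb i), stalkMapₗ_comp, tr_zero_proj, stalkMapₗ_comp]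
  have hsub : stalkIdeal I y = ⊤ → ∀ m (x : S.M m), x = 0 := fun h m x => by
    have := S.smul_eq_zero m (b := 1) (by rw [h, Ideal.top_pow]; trivial) x
    rwa [one_smul] at this
  rw [ConcreteCategory.isIso_iff_bijective]
  show Function.Bijective (stalkMapₗ φ y)
  constructor
  · rw [injective_iff_map_eq_zero]
    intro z hz
    -- decompose
    have hz' : z = ∑ i, stalkMapₗ (biproduct.ι (fun _ : Fin s => G.obj (op 0)) i) y
        (stalkMapₗ (biproduct.π (fun _ : Fin s => G.obj (op 0)) i) y z) := by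
      have h := congrArg (fun f => (DerSch.stalkFunctor X y).map f)
        (biproduct.total (f := fun _ : Fin s => G.obj (op 0))).symm
      simp only [Functor.map_sum] at h
      refine (stalkMapₗ_id _ y z).symm.trans ?_
      refine (LinearMap.congr_fun (congrArg ModuleCat.Hom.hom h) z).trans ?_
      rw [ModuleCat.hom_sum, LinearMap.sum_apply]
      exact Finset.sum_congr rfl fun i _ => stalkMapₗ_comp _ _ y z
    choose l hl using fun i => S.proj_surjective 0
      (stalkMapₗ (biproduct.π (fun _ : Fin s => G.obj (op 0)) i) y z)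
    have key : stalkMapₗ (kernel.ι (trMap G n)) y (stalkMapₗ φ y z) =
        ∑ i, toStalk A X y (b i) • S.proj (n + 1) (l i) := by
      conv_lhs => rw [hz']
      rw [map_sum, map_sum]
      refine Finset.sum_congr rfl fun i _ => ?_
      rw [← hmu, hl, ← stalkMapₗ_comp _ φ]
      exact congrArg (fun f => stalkMapₗ (kernel.ι (trMap G n)) y (stalkMapₗ f y _)) (biproduct.ι_desc _ _)
    rw [hz, map_zero] at key
    have hzero : ∀ i, S.proj 0 (l i) = 0 := by
      by_cases hJ : stalkIdeal I y = ⊤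
      · exact fun i => hsub hJ 0 _
      intro i
      have h1 : ∑ i, toStalk A X y (b i) • l i ∈ LinearMap.ker (S.proj (n + 1)) := by
        rw [LinearMap.mem_ker, map_sum]
        simp only [map_smul]
        exact key.symm
      rw [S.ker_proj] at h1
      have h2 := Submodule.mem_map_of_mem (f := (hatEquiv hG y).toLinearMap) h1
      rw [Submodule.map_smul'', Submodule.map_top, LinearEquiv.range, map_sum] at h2
      simp only [map_smul] at h2
      have h3 := Submodule.mem_map_of_mem (f := (hatEquiv hG y).symm.toLinearMap)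
        (hind y hJ (fun i => hatEquiv hG y (l i)) h2 i)
      rw [Submodule.map_smul'', Submodule.map_top, LinearEquiv.range] at h3
      have h4 : l i ∈ LinearMap.ker (S.proj 0) := by
        rw [S.ker_proj, pow_one]
        simpa using h3
      exact h4
    rw [hz']
    exact Finset.sum_eq_zero fun i _ => (congrArg _ ((hl i).symm.trans (hzero i))).trans (map_zero _)
  · intro w
    have hw : stalkMapₗ (kernel.ι (trMap G n)) y w ∈
        (stalkIdeal I y ^ (n + 1) • ⊤ : Submodule (X.presheaf.stalk y) (S.M (n + 1))) := by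
      refine (ker_stalk_trMap hG n y).le ?_
      rw [LinearMap.mem_ker, ← stalkMapₗ_comp, kernel.condition, stalkMapₗ_zero]
    by_cases hJ : stalkIdeal I y = ⊤
    · exact ⟨0, hιinj (by rw [map_zero, map_zero]; exact (hsub hJ _ _).symm)⟩
    rw [← hspan y hJ] at hw
    obtain ⟨v, -, hv⟩ := AlgzCohLib.exists_sum_eq _ _ hw
    choose l hl using fun i => S.proj_surjective (n + 1) (v i)
    refine ⟨∑ i, stalkMapₗ (biproduct.ι (fun _ : Fin s => G.obj (op 0)) i) y (S.proj 0 (l i)), hιinj ?_⟩
    rw [map_sum, map_sum]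
    refine Eq.trans (Finset.sum_congr rfl fun i _ => ?_) hv.symm
    refine Eq.trans ?_ ((hmu i (l i)).trans (congrArg (toStalk A X y (b i) • ·) (hl i)))
    rw [← stalkMapₗ_comp _ φ]
    exact congrArg (fun f => stalkMapₗ (kernel.ι (trMap G n)) y (stalkMapₗ f y _)) (biproduct.ι_desc _ _)

end CanExtLib

end
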