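import Groth.Agent.CanExtLib.Alg
import Groth.Agent.CanExtLib.Stalk
import Groth.Agent.AlgzCohLib.Limit
import Groth.Agent.GrSysLib.Adic
import Groth.Agent.GrSysLib.Step
import Groth.Agent.ModifLib.Leray

/-!
# Canonical extension when the graded pieces are sums of copies of the first term
-/

set_option autoImplicit false

universe u

open CategoryTheory CategoryTheory.Limits AlgebraicGeometry TopologicalSpace Opposite
open FormalLib (hMapA hMapA_comp)
open GrSysLib (trMap kerTrSys tau)

noncomputable section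

namespace CanExtLib

variable {A : Type u} [CommRing A] {U : (Spec (CommRingCat.of A)).Opens}

/-- The sections of a map of modules, over the base. -/
abbrev Γm {M N : (U : Scheme.{u}).Modules} (φ : M ⟶ N) :=
  ((moduleSpecΓFunctor (R := CommRingCat.of A)).map ((Scheme.Modules.pushforward U.ι).map φ)).hom

/-- The sections as zeroth cohomology. -/
def sig (M : (U : Scheme.{u}).Modules) :
    ↥((moduleSpecΓFunctor (R := CommRingCat.of A)).obj ((Scheme.Modules.pushforward U.ι).obj M)) ≃+
      Coh.HH (U : Scheme.{u}) M 0 :=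
  AddEquiv.symm ((ModifLib.h0Sec M).trans (AddEquiv.refl Γ(M, ⊤)))

theorem sig_map {M N : (U : Scheme.{u}).Modules} (φ : M ⟶ N)
    (x : ↥((moduleSpecΓFunctor (R := CommRingCat.of A)).obj ((Scheme.Modules.pushforward U.ι).obj M))) :
    sig N (Γm φ x) = hMapA (A := A) φ 0 (sig M x) := by
  refine (ModifLib.h0Sec N).injective ?_
  refine Eq.trans ?_ (ModifLib.h0Sec_map (A := A) φ (sig M x)).symm
  refine ((ModifLib.h0Sec N).apply_symm_apply _).trans ?_
  exact (congrArg (φ.app ⊤) ((ModifLib.h0Sec M).apply_symm_apply x)).symm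

theorem sig_smul (M : (U : Scheme.{u}).Modules) (a : A)
    (x : ↥((moduleSpecΓFunctor (R := CommRingCat.of A)).obj ((Scheme.Modules.pushforward U.ι).obj M))) :
    sig M (a • x) = a • sig M x := by
  let _ := AlgzCohLib.selfOver A
  have h : a • x = Γm (Formal.smulMod A M a) x := by
    refine (AlgzCohLib.Γ_smulMod_apply ((Scheme.Modules.pushforward U.ι).obj M) a x).symm.trans ?_
    exact congrArg (fun ψ => ((moduleSpecΓFunctor (R := CommRingCat.of A)).map ψ).hom x)
      (GrSysLib.push_smulMod U.ι (Category.comp_id _) M a).symm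
  rw [h, sig_map]
  exact (FormalProLib.smul_eq_hMap M a 0 (sig M x)).symm

/-- `sig` as a linear map. -/
def sigL (M : (U : Scheme.{u}).Modules) :
    ↥((moduleSpecΓFunctor (R := CommRingCat.of A)).obj ((Scheme.Modules.pushforward U.ι).obj M)) ≃ₗ[A]
      Coh.HH (U : Scheme.{u}) M 0 :=
  { sig M with map_smul' := sig_smul M }

variable {I : Ideal A} {G : ℕᵒᵖ ⥤ (U : Scheme.{u}).Modules} (hG : Formal.IsCohFormal I G)

theorem smulMod_sum {X : Scheme.{u}} [X.Over (Spec (CommRingCat.of A))] (M : X.Modules) {ι : Type*}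
    (s : Finset ι) (c : ι → A) :
    Formal.smulMod A M (∑ i ∈ s, c i) = ∑ i ∈ s, Formal.smulMod A M (c i) :=
  map_sum (AddMonoidHom.mk' (Formal.smulMod A M) (FormalLib.smulMod_add M)) c s

theorem hMapA_sum {X : Scheme.{u}} [X.Over (Spec (CommRingCat.of A))] {M N : X.Modules} {ι : Type*}
    (s : Finset ι) (φ : ι → (M ⟶ N)) (p : ℕ) (x : Coh.HH X M p) :
    hMapA (A := A) (∑ i ∈ s, φ i) p x = ∑ i ∈ s, hMapA (A := A) (φ i) p x :=
  map_sum (AddMonoidHom.mk' (fun f : M ⟶ N => hMapA (A := A) f p x)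
    (fun f g => GrSysLib.hMapA_add' f g p x)) φ s

theorem finite_HH_kernel [IsNoetherianRing A] {n s : ℕ} {b : Fin s → A} {hb : ∀ i, b i ∈ I ^ (n + 1)}
    (p : Fin s → (kernel (trMap G n) ⟶ G.obj (op 0))) (hp : ∑ i, p i ≫ mu hG n (b i) (hb i) = 𝟙 _)
    (q : ℕ) [Module.Finite A (Coh.HH (U : Scheme.{u}) (G.obj (op 0)) q)] :
    Module.Finite A (Coh.HH (U : Scheme.{u}) (kernel (trMap G n)) q) := by
  classical
  refine Module.Finite.of_surjective
    (∑ i, (hMapA (A := A) (mu hG n (b i) (hb i)) q).comp (LinearMap.proj (R := A)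
      (φ := fun _ : Fin s => Coh.HH (U : Scheme.{u}) (G.obj (op 0)) q) i)) fun x => ?_
  refine ⟨fun i => hMapA (A := A) (p i) q x, ?_⟩
  simp only [LinearMap.sum_apply, LinearMap.comp_apply, LinearMap.proj_apply, hMapA_comp]
  rw [← hMapA_sum, hp, FormalProLib.hMap_id]

variable {r : ℕ} (a : Fin r → A) (ha : ∀ i, a i ∈ I)

/-- The operators on the kernels. -/
def tk (i : Fin r) (n : ℕ) : kernel (trMap G n) ⟶ kernel (trMap G (n + 1)) := (kerTrSys hG a ha).t i n

theorem tk_ι (i : Fin r) (n : ℕ) :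
    tk hG a ha i n ≫ kernel.ι _ = kernel.ι _ ≫ tau hG (n + 1) (a i) (ha i) := kernel.lift_ι _ _ _

theorem mu_eq_sum (n : ℕ) (x : Fin r → A) (hx : ∀ i, x i ∈ I ^ (n + 1)) {b : A} (hb : b ∈ I ^ (n + 1 + 1))
    (hbx : b = ∑ i, a i * x i) :
    mu hG (n + 1) b hb = ∑ i, mu hG n (x i) (hx i) ≫ tk hG a ha i n := by
  refine mu_ext (n + 1) ?_ hG
  rw [tr_mu, Preadditive.sum_comp, Preadditive.comp_sum, hbx, smulMod_sum]
  refine Finset.sum_congr rfl fun i _ => ?_
  rw [Category.assoc, tk_ι,
    show ARSys.tr G (Nat.zero_le (n + 1 + 1)) = trMap G (n + 1) ≫ ARSys.tr G (Nat.zero_le (n + 1)) from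
      G.map_comp _ _]
  simp only [Category.assoc]
  rw [reassoc_of% tr_mu hG n (x i) (hx i), ← reassoc_of% FormalProLib.smulMod_natural (trMap G (n + 1)) (x i),
    GrSysLib.trMap_tau, ← FormalLib.smulMod_mul, mul_comm]

theorem genOps_tH [IsNoetherianRing A] (hspan : Ideal.span (Set.range a) = I)
    (hsplit : ∀ n, ∃ (s : ℕ) (b : Fin s → A) (hb : ∀ i, b i ∈ I ^ (n + 1))
      (p : Fin s → (kernel (trMap G n) ⟶ G.obj (op 0))), ∑ i, p i ≫ mu hG n (b i) (hb i) = 𝟙 _)
    (q : ℕ) : GrSysLib.GenOps (GrSysLib.tH A (kerTrSys hG a ha) q) := by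
  refine ⟨0, fun n _ x => ?_⟩
  obtain ⟨s, b, hb, p, hp⟩ := hsplit (n + 1)
  have hdec : ∀ j, ∃ c : Fin r → A, (∀ i, c i ∈ I ^ (n + 1)) ∧ b j = ∑ i, a i * c i := fun j => by
    obtain ⟨w, hw, hwe⟩ := AlgzCohLib.exists_sum_eq a (I ^ (n + 1) : Ideal A)
      (show b j ∈ Ideal.span (Set.range a) • (I ^ (n + 1) : Ideal A) by
        rw [hspan, smul_eq_mul, ← pow_succ']; exact hb j)
    exact ⟨w, hw, hwe⟩
  choose c hc hce using hdec
  refine ⟨fun i => ∑ j, hMapA (A := A) (p j ≫ mu hG n (c j i) (hc j i)) q x, ?_⟩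
  refine Eq.trans (Finset.sum_congr rfl fun i _ => map_sum _ _ _) ?_
  rw [Finset.sum_comm]
  have key : x = hMapA (A := A) (∑ j, p j ≫ mu hG (n + 1) (b j) (hb j)) q x := by
    rw [hp]; exact (FormalProLib.hMap_id _ q x).symm
  refine Eq.trans ?_ key.symm
  rw [hMapA_sum]
  refine Finset.sum_congr rfl fun j _ => ?_
  rw [mu_eq_sum hG a ha n (c j) (hc j) (hb j) (hce j), Preadditive.comp_sum, hMapA_sum]
  refine Finset.sum_congr rfl fun i _ => ?_
  show hMapA (A := A) (tk hG a ha i n) q (hMapA (A := A) _ q x) = _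
  rw [hMapA_comp]
  exact congrArg (fun φ => hMapA (A := A) φ q x) (Category.assoc _ _ _)

include hG in
/-- The step sequences. -/
theorem step_shortExact (n : ℕ) :
    (ShortComplex.mk _ _ (kernel.condition (trMap G n))).ShortExact :=
  haveI := GrSysLib.epi_trMap hG n
  { exact := ShortComplex.exact_of_f_is_kernel _ (kernelIsKernel (trMap G n)) }

/-- The morphism of step sequences. -/
def stepHom (i : Fin r) (n : ℕ) :
    ShortComplex.mk _ _ (kernel.condition (trMap G n)) ⟶
      ShortComplex.mk _ _ (kernel.condition (trMap G (n + 1))) :=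
  ShortComplex.homMk ((kerTrSys hG a ha).t i n) (tau hG (n + 1) (a i) (ha i)) (tau hG n (a i) (ha i))
    (kernel.lift_ι _ _ _) (by
      show tau hG (n + 1) (a i) (ha i) ≫ trMap G (n + 1) = trMap G n ≫ tau hG n (a i) (ha i)
      rw [GrSysLib.tau_trMap, GrSysLib.trMap_tau])

variable [IsNoetherianRing A]

include hG in
/-- **Canonical extension when the graded pieces are sums of copies of the first term.** -/
theorem canonicallyExtends_of_split
    (h0 : Module.Finite A (Coh.HH (U : Scheme.{u}) (G.obj (op 0)) 0))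
    (h1 : Module.Finite A (Coh.HH (U : Scheme.{u}) (G.obj (op 0)) 1))
    (hsplit : ∀ n, ∃ (s : ℕ) (b : Fin s → A) (hb : ∀ i, b i ∈ I ^ (n + 1))
      (p : Fin s → (kernel (trMap G n) ⟶ G.obj (op 0))), ∑ i, p i ≫ mu hG n (b i) (hb i) = 𝟙 _) :
    Algz.CanonicallyExtends A I U G := by
  obtain ⟨r, a, hspan⟩ := Submodule.fg_iff_exists_fin_generating_family.mp (IsNoetherian.noetherian I)
  have ha : ∀ i, a i ∈ I := fun i => hspan ▸ Submodule.subset_span ⟨i, rfl⟩
  have hsp : Ideal.span (Set.range a) = I := hspan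
  let S : GT (Algz.sectMod A U G) a :=
    { K := fun n => Coh.HH (U : Scheme.{u}) (kernel (trMap G n)) 0
      L := fun n => Coh.HH (U : Scheme.{u}) (kernel (trMap G n)) 1
      finK := fun n => by
        obtain ⟨s, b, hb, p, hp⟩ := hsplit n
        exact finite_HH_kernel hG p hp 0
      finL := fun n => by
        obtain ⟨s, b, hb, p, hp⟩ := hsplit n
        exact finite_HH_kernel hG p hp 1
      ι := fun n => (sigL (G.obj (op (n + 1)))).symm.toLinearMap ∘ₗ hMapA (kernel.ι (trMap G n)) 0
      δ := fun n => ModifLib.dL (step_shortExact hG n) 0 ∘ₗ (sigL (G.obj (op n))).toLinearMap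
      τ := fun i n => Γm (tau hG n (a i) (ha i))
      tK := GrSysLib.tH A (kerTrSys hG a ha) 0
      tL := GrSysLib.tH A (kerTrSys hG a ha) 1
      p_τ := fun i n x => by
        refine (sigL (G.obj (op n))).injective ?_
        refine Eq.trans ?_ ((sigL _).map_smul (a i) x).symm
        refine (sig_map (trMap G n) _).trans ?_
        refine (congrArg _ (sig_map (tau hG n (a i) (ha i)) x)).trans ?_
        rw [hMapA_comp, GrSysLib.tau_trMap]
        exact (FormalProLib.smul_eq_hMap _ (a i) 0 _).symm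
      τ_p := fun i n x => by
        refine (sigL (G.obj (op (n + 1)))).injective ?_
        refine Eq.trans ?_ ((sigL _).map_smul (a i) x).symm
        refine (sig_map (tau hG n (a i) (ha i)) _).trans ?_
        refine (congrArg _ (sig_map (trMap G n) x)).trans ?_
        rw [hMapA_comp, GrSysLib.trMap_tau]
        exact (FormalProLib.smul_eq_hMap _ (a i) 0 _).symm
      ker_p := fun n x => by
        constructor
        · intro h
          have h' : Sheaf.H.map ((QCohLib.toAbF _).map (trMap G n)) 0 (sig _ x) = 0 :=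
            (sig_map (trMap G n) x).symm.trans ((congrArg (sig _) h).trans (map_zero _))
          obtain ⟨w, hw⟩ := AtlasCoh.hExact₂ (QCohLib.toAbF_shortExact (step_shortExact hG n)) 0 _ h'
          exact ⟨w, (congrArg (sigL (G.obj (op (n + 1)))).symm hw).trans ((sigL (G.obj (op (n + 1)))).symm_apply_apply x)⟩
        · rintro ⟨w, rfl⟩
          refine (sigL (G.obj (op n))).injective ?_
          refine Eq.trans ?_ (sigL (G.obj (op n))).map_zero.symm
          refine (sig_map (trMap G n) _).trans ?_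
          refine (congrArg _ ((sigL (G.obj (op (n + 1)))).apply_symm_apply _)).trans ?_
          rw [hMapA_comp, kernel.condition, FormalProLib.hMap_zero]
      ker_δ := fun n x h => by
        obtain ⟨y, hy⟩ := AtlasCoh.hExact₃ (QCohLib.toAbF_shortExact (step_shortExact hG n)) 0 _ h
        refine ⟨(sigL (G.obj (op (n + 1)))).symm y, (sigL (G.obj (op n))).injective ?_⟩
        refine (sig_map (trMap G n) _).trans ?_
        refine (congrArg _ ((sigL (G.obj (op (n + 1)))).apply_symm_apply y)).trans ?_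
        exact hy
      ι_tK := fun i n w => by
        refine (sigL (G.obj (op (n + 1 + 1)))).injective ?_
        refine ((sigL (G.obj (op (n + 1 + 1)))).apply_symm_apply _).trans ?_
        refine Eq.trans ?_ (sig_map (tau hG (n + 1) (a i) (ha i)) _).symm
        refine Eq.trans ?_ (congrArg _ ((sigL (G.obj (op (n + 1)))).apply_symm_apply _)).symm
        show hMapA (A := A) _ 0 (hMapA (A := A) _ 0 w) = _
        rw [hMapA_comp, hMapA_comp]
        exact congrArg (fun φ => hMapA (A := A) φ 0 w) (kernel.lift_ι _ _ _)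
      δ_τ := fun i n x => by
        refine (congrArg (ModifLib.dL (A := A) (step_shortExact hG (n + 1)) 0)
          (sig_map (tau hG n (a i) (ha i)) x)).trans ?_
        exact FormalProLib.hδ_natural' (QCohLib.toAbF_shortExact (step_shortExact hG n))
          (QCohLib.toAbF_shortExact (step_shortExact hG (n + 1)))
          ((QCohLib.toAbF _).mapShortComplex.map (stepHom hG a ha i n)) 0 (sig _ x)
      commK := GrSysLib.commOps_tH _ 0
      commL := GrSysLib.commOps_tH _ 1
      genK := genOps_tH hG a ha hsp hsplit 0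
      genL := genOps_tH hG a ha hsp hsplit 1 }
  have hfin : ∀ n, Module.Finite A ((Algz.sectMod A U G).obj (op n)) :=
    S.finite (Module.Finite.equiv (sigL (G.obj (op 0))).symm)
  refine AlgzCohLib.canonicallyExtends_of hG (S.exists_stable ha (AlgzCohLib.killed_sectMod hG))
    (S.exists_ker_le ha) fun n => ?_
  have := hfin n
  infer_instance

end CanExtLib

end
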