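import Groth.Agent.CanExtLib.Stalk
import Groth.Agent.FormalCohLib.Push
import Mathlib.AlgebraicGeometry.Noetherian

/-!
# The points where the stalk ideal is proper
-/

set_option autoImplicit false

universe u

open CategoryTheory AlgebraicGeometry TopologicalSpace Opposite

noncomputable section

namespace CanExtLib

variable {A : Type u} [CommRing A]

theorem isUnit_toStalk {X : Scheme.{u}} [X.Over (Spec (CommRingCat.of A))] (y : X) (a : A)
    (h : (X ↘ Spec (CommRingCat.of A)).base y ∈ PrimeSpectrum.basicOpen a) :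
    IsUnit (Algz.toStalk A X y a) := by
  let f := X ↘ Spec (CommRingCat.of A)
  let g : Γ(Spec (CommRingCat.of A), ⊤) := (Scheme.ΓSpecIso (CommRingCat.of A)).inv a
  have h1 : y ∈ f ⁻¹ᵁ ((Spec (CommRingCat.of A)).basicOpen g) := by
    show f.base y ∈ (Spec (CommRingCat.of A)).basicOpen g
    rw [basicOpen_eq_of_affine', show (Scheme.ΓSpecIso (CommRingCat.of A)).hom g = a by simp [g]]
    exact h
  rw [Scheme.preimage_basicOpen_top] at h1
  exact (X.mem_basicOpen (f.appTop g) y (show y ∈ (⊤ : X.Opens) from trivial)).1 h1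

/-- Where the stalk ideal is proper, the point lies over `V(I)`. -/
theorem mem_zeroLocus_of_ne_top {U : (Spec (CommRingCat.of A)).Opens} {I : Ideal A} (y : (U : Scheme.{u}))
    (hy : Algz.stalkIdeal I y ≠ ⊤) : U.ι.base y ∈ PrimeSpectrum.zeroLocus (R := A) I := by
  intro a ha
  by_contra hn
  refine hy (Ideal.eq_top_of_isUnit_mem _ (Ideal.mem_map_of_mem _ ha) (isUnit_toStalk y a ?_))
  exact hn

theorem isNoetherian_opens [IsNoetherianRing A] (U : (Spec (CommRingCat.of A)).Opens) :
    AlgebraicGeometry.IsNoetherian (U : Scheme.{u}) := by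
  have : IsLocallyNoetherian (U : Scheme.{u}) := LocallyOfFiniteType.isLocallyNoetherian U.ι
  have : CompactSpace (U : Scheme.{u}) :=
    isCompact_iff_compactSpace.1 (NoetherianSpace.isCompact (U : Set (Spec (CommRingCat.of A))))
  exact {}

end CanExtLib

end
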