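import Groth.Agent.AlgzCohLib.Tower
import Mathlib.RingTheory.Regular.RegularSequence

/-!
# Weakly regular sequences on a module are quasi-regular
-/

set_option autoImplicit false

universe u

noncomputable section

namespace CanExtLib

open AlgzCohLib (exists_sum_eq)

/-- The number of monomials of degree `n` in `d` variables. -/
def cnt : ℕ → ℕ → ℕ
  | 0 => fun n => match n with
    | 0 => 1
    | _ + 1 => 0
  | d + 1 => fun n => Nat.rec 1 (fun k acc => cnt d (k + 1) + acc) n

/-- The monomials of degree `n`. -/
def mon {B : Type u} [CommRing B] : ∀ {d : ℕ}, (Fin d → B) → ∀ n, Fin (cnt d n) → B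
  | 0, _ => fun n => match n with
    | 0 => fun _ => 1
    | _ + 1 => Fin.elim0
  | d + 1, f => fun n => Nat.rec (motive := fun n => Fin (cnt (d + 1) n) → B) (fun _ => 1)
    (fun k acc => Fin.append (mon (fun i : Fin d => f i.castSucc) (k + 1)) (fun i => f (Fin.last d) * acc i)) n

variable {B C : Type u} [CommRing B] [CommRing C]

theorem mon_succ_castAdd {d : ℕ} (f : Fin (d + 1) → B) (n : ℕ) (i : Fin (cnt d (n + 1))) :
    mon f (n + 1) (Fin.castAdd (cnt (d + 1) n) i) = mon (fun j : Fin d => f j.castSucc) (n + 1) i :=
  Fin.append_left _ _ i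

theorem mon_succ_natAdd {d : ℕ} (f : Fin (d + 1) → B) (n : ℕ) (i : Fin (cnt (d + 1) n)) :
    mon f (n + 1) (Fin.natAdd (cnt d (n + 1)) i) = f (Fin.last d) * mon f n i :=
  Fin.append_right _ _ i

theorem cases_succ {d n : ℕ} {P : Fin (cnt (d + 1) (n + 1)) → Prop}
    (hl : ∀ i, P (Fin.castAdd (cnt (d + 1) n) i)) (hr : ∀ i, P (Fin.natAdd (cnt d (n + 1)) i))
    (i : Fin (cnt (d + 1) (n + 1))) : P i :=
  Fin.addCases (motive := P) hl hr i

theorem map_mon (φ : B →+* C) : ∀ {d : ℕ} (f : Fin d → B) (n : ℕ) (i : Fin (cnt d n)),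
    φ (mon f n i) = mon (fun j => φ (f j)) n i
  | 0, _, 0, _ => map_one φ
  | 0, _, _ + 1, i => Fin.elim0 i
  | d + 1, f, n, i => by
    induction n with
    | zero => exact map_one φ
    | succ n ih =>
      revert i
      refine cases_succ (fun i => ?_) (fun i => ?_)
      · rw [mon_succ_castAdd, mon_succ_castAdd, map_mon φ]
      · rw [mon_succ_natAdd, mon_succ_natAdd, map_mul, ih]

theorem span_range_succ {d : ℕ} (f : Fin (d + 1) → B) :
    Ideal.span (Set.range f) =
      Ideal.span (Set.range fun i : Fin d => f i.castSucc) ⊔ Ideal.span {f (Fin.last d)} := by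
  rw [← Ideal.span_union]
  congr 1
  ext z
  constructor
  · rintro ⟨i, rfl⟩
    cases i using Fin.lastCases with
    | last => exact Or.inr rfl
    | cast i => exact Or.inl ⟨i, rfl⟩
  · rintro (⟨i, rfl⟩ | rfl) <;> exact ⟨_, rfl⟩

theorem span_mon : ∀ {d : ℕ} (f : Fin d → B) (n : ℕ),
    Ideal.span (Set.range (mon f n)) = Ideal.span (Set.range f) ^ n
  | 0, f, 0 => by
    rw [pow_zero, Ideal.one_eq_top, Ideal.eq_top_iff_one]
    exact Ideal.subset_span ⟨(0 : Fin 1), rfl⟩
  | 0, f, n + 1 => by
    haveI : IsEmpty (Fin (cnt 0 (n + 1))) := inferInstanceAs (IsEmpty (Fin 0))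
    rw [Set.range_eq_empty, Set.range_eq_empty, Ideal.span_empty, pow_succ, Ideal.mul_bot]
  | d + 1, f, n => by
    induction n with
    | zero =>
      rw [pow_zero, Ideal.one_eq_top, Ideal.eq_top_iff_one]
      exact Ideal.subset_span ⟨(0 : Fin 1), rfl⟩
    | succ n h2 =>
      let f' : Fin d → B := fun i => f i.castSucc
      have h1 := span_mon f' (n + 1)
      have hle : Ideal.span (Set.range f') ≤ Ideal.span (Set.range f) :=
        Ideal.span_mono (by rintro _ ⟨i, rfl⟩; exact ⟨_, rfl⟩)
      have hrange : Set.range (mon f (n + 1)) =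
          Set.range (mon f' (n + 1)) ∪ Set.range (fun i => f (Fin.last d) * mon f n i) := by
        ext z
        constructor
        · rintro ⟨i, rfl⟩
          revert i
          exact cases_succ (fun i => Or.inl ⟨i, (mon_succ_castAdd f n i).symm⟩)
            (fun i => Or.inr ⟨i, (mon_succ_natAdd f n i).symm⟩)
        · rintro (⟨i, rfl⟩ | ⟨i, rfl⟩)
          · exact ⟨Fin.castAdd (cnt (d + 1) n) i, mon_succ_castAdd f n i⟩
          · exact ⟨Fin.natAdd (cnt d (n + 1)) i, mon_succ_natAdd f n i⟩
      have hmul : Ideal.span (Set.range fun i => f (Fin.last d) * mon f n i) =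
          Ideal.span {f (Fin.last d)} * Ideal.span (Set.range (mon f n)) := by
        rw [Ideal.span_mul_span', Set.singleton_mul, ← Set.range_comp]
        rfl
      rw [hrange, Ideal.span_union, hmul, h1, h2]
      refine le_antisymm (sup_le (Ideal.pow_right_mono hle _) ?_) ?_
      · rw [pow_succ']
        exact Ideal.mul_mono_left (Ideal.span_mono (by simp))
      · have : Ideal.span (Set.range f) = Ideal.span (Set.range f') ⊔ Ideal.span {f (Fin.last d)} :=
          span_range_succ f
        have hstep : ∀ k, Ideal.span (Set.range f) ^ (k + 1) ≤ Ideal.span (Set.range f') ^ (k + 1) ⊔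
            Ideal.span {f (Fin.last d)} * Ideal.span (Set.range f) ^ k := by
          intro k
          induction k with
          | zero => simpa using this.le
          | succ k ih =>
            calc Ideal.span (Set.range f) ^ (k + 1 + 1)
                = Ideal.span (Set.range f) ^ (k + 1) * Ideal.span (Set.range f) := pow_succ _ _
              _ ≤ (Ideal.span (Set.range f') ^ (k + 1) ⊔
                    Ideal.span {f (Fin.last d)} * Ideal.span (Set.range f) ^ k) *
                  Ideal.span (Set.range f) := Ideal.mul_mono_left ih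
              _ = Ideal.span (Set.range f') ^ (k + 1) * Ideal.span (Set.range f) ⊔
                  Ideal.span {f (Fin.last d)} * Ideal.span (Set.range f) ^ (k + 1) := by
                rw [Ideal.sup_mul, mul_assoc, ← pow_succ]
              _ ≤ _ := by
                refine sup_le ?_ le_sup_right
                conv_lhs => rw [this]
                rw [Ideal.mul_sup, ← pow_succ]
                refine sup_le le_sup_left (le_sup_of_le_right ?_)
                rw [mul_comm]
                exact Ideal.mul_mono_right (Ideal.pow_right_mono hle _)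
        exact hstep n


variable {M : Type u} [AddCommGroup M] [Module B M]

/-- Coefficients of a relation in the next power lie in the ideal. -/
def Ind {d : ℕ} (f : Fin d → B) (M : Type u) [AddCommGroup M] [Module B M] (n : ℕ) : Prop :=
  ∀ m : Fin (cnt d n) → M, ∑ i, mon f n i • m i ∈ (Ideal.span (Set.range f) ^ (n + 1) • ⊤ : Submodule B M) →
    ∀ i, m i ∈ (Ideal.span (Set.range f) • ⊤ : Submodule B M)

theorem ind_of_zero {d : ℕ} (f : Fin d → B) (n : ℕ)
    (h : ∀ m : Fin (cnt d n) → M, ∑ i, mon f n i • m i = 0 →
      ∀ i, m i ∈ (Ideal.span (Set.range f) • ⊤ : Submodule B M)) : Ind f M n := by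
  intro m hm i
  rw [pow_succ, Submodule.mul_smul, ← span_mon f n] at hm
  obtain ⟨w, hw, hwe⟩ := exists_sum_eq (mon f n) _ hm
  have := h (fun i => m i - w i) (by
    simp only [smul_sub, Finset.sum_sub_distrib]
    exact sub_eq_zero.2 hwe) i
  simpa using add_mem this (hw i)

theorem ind_of_regular : ∀ {d : ℕ} (f : Fin d → B),
    RingTheory.Sequence.IsWeaklyRegular M (List.ofFn f) → ∀ n, Ind f M n
  | 0, f, _, n => ind_of_zero f n fun m hm i => by
    cases n with
    | zero =>
      have hi : m i = 0 := by
        let m₀ : Fin 1 → M := m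
        have : ∑ j : Fin 1, (1 : B) • m₀ j = 0 := hm
        rw [Fin.sum_univ_one, one_smul] at this
        show m₀ i = 0
        rw [Subsingleton.elim (α := Fin 1) i 0]
        exact this
      rw [hi]
      exact zero_mem _
    | succ n => exact Fin.elim0 i
  | d + 1, f, hf, n => by
    let f' : Fin d → B := fun i => f i.castSucc
    let x : B := f (Fin.last d)
    let J' : Ideal B := Ideal.span (Set.range f')
    let J : Ideal B := Ideal.span (Set.range f)
    have hle : J' ≤ J := Ideal.span_mono (by rintro _ ⟨i, rfl⟩; exact ⟨_, rfl⟩)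
    have hx : x ∈ J := Ideal.subset_span ⟨_, rfl⟩
    rw [List.ofFn_succ', List.concat_eq_append, RingTheory.Sequence.isWeaklyRegular_append_iff,
      RingTheory.Sequence.isWeaklyRegular_singleton_iff] at hf
    obtain ⟨hf', hxr⟩ := hf
    have hJ' : Ideal.ofList (List.ofFn f') = J' := by
      show Ideal.span _ = Ideal.span _
      congr 1
      ext z
      simp [List.mem_ofFn]
    have hreg : ∀ y : M, x • y ∈ (J' • ⊤ : Submodule B M) → y ∈ (J' • ⊤ : Submodule B M) := by
      intro y hy
      rw [← hJ'] at hy ⊢
      refine (Submodule.Quotient.mk_eq_zero _).1 (hxr ?_)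
      show x • Submodule.Quotient.mk y = x • (0 : M ⧸ _)
      rw [smul_zero, ← Submodule.Quotient.mk_smul, Submodule.Quotient.mk_eq_zero]
      exact hy
    have ih := ind_of_regular f' hf'
    have hpow : ∀ k (y : M), x • y ∈ (J' ^ k • ⊤ : Submodule B M) → y ∈ (J' ^ k • ⊤ : Submodule B M) := by
      intro k
      induction k with
      | zero => intro y _; simp
      | succ k ihk =>
        intro y hy
        have h1 := ihk y (Submodule.smul_mono_left (Ideal.pow_le_pow_right k.le_succ) hy)
        rw [← span_mon f' k] at h1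
        obtain ⟨v, -, rfl⟩ := exists_sum_eq (mon f' k) _ h1
        have h2 := ih k (fun i => x • v i) (by
          refine Eq.mp (congrArg (· ∈ (J' ^ (k + 1) • ⊤ : Submodule B M)) ?_) hy
          rw [Finset.smul_sum]
          exact Finset.sum_congr rfl fun i _ => smul_comm _ _ _)
        refine Submodule.sum_mem _ fun i _ => ?_
        rw [pow_succ, Submodule.mul_smul]
        exact Submodule.smul_mem_smul ((span_mon f' k).le (Ideal.subset_span ⟨i, rfl⟩)) (hreg _ (h2 i))
    induction n with
    | zero =>
      refine ind_of_zero f 0 fun m hm i => ?_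
      have hi : m i = 0 := by
        let m₀ : Fin 1 → M := m
        have : ∑ j : Fin 1, (1 : B) • m₀ j = 0 := hm
        rw [Fin.sum_univ_one, one_smul] at this
        show m₀ i = 0
        rw [Subsingleton.elim (α := Fin 1) i 0]
        exact this
      rw [hi]
      exact zero_mem _
    | succ n ihn =>
      refine ind_of_zero f (n + 1) fun m hm i => ?_
      let m' : Fin (cnt d (n + 1)) → M := fun j => m (Fin.castAdd (cnt (d + 1) n) j)
      let c : Fin (cnt (d + 1) n) → M := fun j => m (Fin.natAdd (cnt d (n + 1)) j)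
      have hsplit : ∑ j, mon f' (n + 1) j • m' j + x • ∑ j, mon f n j • c j = 0 := by
        rw [Finset.smul_sum]
        refine Eq.trans ?_ hm
        refine Eq.trans ?_ (Fin.sum_univ_add _).symm
        refine congrArg₂ (· + ·) (Finset.sum_congr rfl fun j _ => ?_) (Finset.sum_congr rfl fun j _ => ?_)
        · exact congrArg (· • m' j) (mon_succ_castAdd f n j).symm
        · exact (smul_smul _ _ _).trans (congrArg (· • c j) (mon_succ_natAdd f n j).symm)
      have hh : ∑ j, mon f n j • c j ∈ (J' ^ (n + 1) • ⊤ : Submodule B M) := by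
        refine hpow _ _ ?_
        rw [eq_neg_of_add_eq_zero_right hsplit]
        refine neg_mem (Submodule.sum_mem _ fun j _ => Submodule.smul_mem_smul ?_ trivial)
        exact (span_mon f' (n + 1)).le (Ideal.subset_span ⟨j, rfl⟩)
      have hc : ∀ j, c j ∈ (J • ⊤ : Submodule B M) :=
        ihn c (Submodule.smul_mono_left (Ideal.pow_right_mono hle _) hh)
      rw [← span_mon f' (n + 1)] at hh
      obtain ⟨g, -, hg⟩ := exists_sum_eq (mon f' (n + 1)) _ hh
      rw [hg, Finset.smul_sum, ← Finset.sum_add_distrib] at hsplit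
      have h0 := ih (n + 1) (fun j => m' j + x • g j) (by
        refine Eq.mpr (congrArg (· ∈ (J' ^ (n + 1 + 1) • ⊤ : Submodule B M)) ?_) (zero_mem _)
        refine Eq.trans ?_ hsplit
        exact Finset.sum_congr rfl fun j _ => by rw [smul_add, smul_comm])
      revert i
      refine cases_succ (fun j => ?_) hc
      have h1 := Submodule.smul_mono_left hle (h0 j)
      simpa using sub_mem h1 (Submodule.smul_mem_smul (n := g j) hx trivial)

end CanExtLib

end
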